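import Mathlib.RingTheory.Etale.Kaehler
import Mathlib.RingTheory.Kaehler.JacobiZariski
import Mathlib.RingTheory.Smooth.Basic

/-!
# The first cotangent homology along formally étale base maps and localisations
-/

set_option autoImplicit false
set_option backward.isDefEq.respectTransparency.types false

universe u

open TensorProduct

namespace NLSheafLib

section Comp

variable {R₀ R₁ R₂ S₀ S₁ S₂ : Type u} [CommRing R₀] [CommRing R₁] [CommRing R₂]
  [CommRing S₀] [CommRing S₁] [CommRing S₂]
  [Algebra R₀ R₁] [Algebra R₀ R₂] [Algebra R₁ R₂] [Algebra S₀ S₁] [Algebra S₀ S₂] [Algebra S₁ S₂]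
  [Algebra R₀ S₀] [Algebra R₁ S₁] [Algebra R₂ S₂]
  [Algebra R₀ S₁] [Algebra R₀ S₂] [Algebra R₁ S₂]
  [IsScalarTower R₀ R₁ R₂] [IsScalarTower S₀ S₁ S₂]
  [IsScalarTower R₀ R₁ S₁] [IsScalarTower R₀ S₀ S₁] [IsScalarTower R₀ R₂ S₂] [IsScalarTower R₀ S₀ S₂]
  [IsScalarTower R₁ R₂ S₂] [IsScalarTower R₁ S₁ S₂]

theorem map_comp (x : Algebra.H1Cotangent R₀ S₀) :
    Algebra.H1Cotangent.map R₁ R₂ S₁ S₂ (Algebra.H1Cotangent.map R₀ R₁ S₀ S₁ x) =
      Algebra.H1Cotangent.map R₀ R₂ S₀ S₂ x := by
  simp only [Algebra.H1Cotangent.map]
  rw [← Algebra.Extension.H1Cotangent.map_comp_apply]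
  exact LinearMap.congr_fun (Algebra.Extension.H1Cotangent.map_eq _ _) x

end Comp

theorem map_self {R S : Type u} [CommRing R] [CommRing S] [Algebra R S] (x : Algebra.H1Cotangent R S) :
    Algebra.H1Cotangent.map R R S S x = x := by
  simp only [Algebra.H1Cotangent.map]
  rw [Algebra.Extension.H1Cotangent.map_eq _ (Algebra.Extension.Hom.id _), Algebra.Extension.H1Cotangent.map_id]
  rfl

section Base

variable (R R' S : Type u) [CommRing R] [CommRing R'] [CommRing S]
  [Algebra R R'] [Algebra R S] [Algebra R' S] [IsScalarTower R R' S]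

open Algebra in
theorem injective_map_base [Algebra.FormallySmooth R R'] :
    Function.Injective (Algebra.H1Cotangent.map R R' S S) := by
  let Q := Generators.self R' S
  let P := Generators.self R R'
  haveI : FormallySmooth R P.toExtension.Ring := inferInstanceAs (FormallySmooth R (MvPolynomial R' R))
  obtain ⟨l, hl⟩ := (P.toExtension.formallySmooth_iff_split_injection).1 inferInstance
  have h0 : Function.Injective (Extension.H1Cotangent.map (Q.ofComp P).toExtensionHom) := by
    refine (injective_iff_map_eq_zero _).2 ?_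
    rintro ⟨x, x_in⟩ hx
    replace hx : Extension.Cotangent.map (Q.ofComp P).toExtensionHom x = 0 := congr_arg Subtype.val hx
    obtain ⟨z, rfl⟩ := (Generators.Cotangent.exact Q P x).1 hx
    rw [LinearMap.mem_ker, ← LinearMap.comp_apply,
      ← Generators.H1Cotangent.map_comp_cotangentComplex_baseChange, LinearMap.comp_apply] at x_in
    have hz : P.toExtension.cotangentComplex.baseChange S z = 0 :=
      (injective_iff_map_eq_zero _).1 (Generators.CotangentSpace.map_toComp_injective Q P) _ x_in
    have : z = 0 := by
      have h1 := congr_arg (l.baseChange S) hz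
      rw [map_zero, ← LinearMap.comp_apply, ← LinearMap.baseChange_comp, hl, LinearMap.baseChange_id] at h1
      exact h1
    subst this
    exact Subtype.ext (map_zero _)
  intro a b hab
  let e := (Generators.self R S).defaultHom (Q.comp P)
  let e' := (Q.comp P).defaultHom (Generators.self R S)
  have h1 : ∀ c, Extension.H1Cotangent.map (Q.ofComp P).toExtensionHom
      (Extension.H1Cotangent.map e.toExtensionHom c) = Algebra.H1Cotangent.map R R' S S c := fun c => by
    rw [← Extension.H1Cotangent.map_comp_apply]
    exact LinearMap.congr_fun (Extension.H1Cotangent.map_eq _ _) c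
  have h2 : ∀ c, Extension.H1Cotangent.map e'.toExtensionHom
      (Extension.H1Cotangent.map e.toExtensionHom c) = c := fun c => by
    rw [← Extension.H1Cotangent.map_comp_apply]
    exact (LinearMap.congr_fun (Extension.H1Cotangent.map_eq _ (Extension.Hom.id _)) c).trans
      (LinearMap.congr_fun Extension.H1Cotangent.map_id c)
  rw [← h1, ← h1] at hab
  rw [← h2 a, ← h2 b, h0 hab]

theorem bijective_map_base [Algebra.FormallyEtale R R'] :
    Function.Bijective (Algebra.H1Cotangent.map R R' S S) :=
  ⟨injective_map_base R R' S,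
    fun x => (Algebra.H1Cotangent.exact_map_δ R R' S x).mp (Subsingleton.elim _ _)⟩

end Base

section Loc

variable {R R' S S' : Type u} [CommRing R] [CommRing R'] [CommRing S] [CommRing S']
  [Algebra R R'] [Algebra S S'] [Algebra R S] [Algebra R' S'] [Algebra R S']
  [IsScalarTower R R' S'] [IsScalarTower R S S']

theorem isLocalizedModule_map [Algebra.FormallyEtale R R'] (M : Submonoid S) [IsLocalization M S'] :
    IsLocalizedModule M (Algebra.H1Cotangent.map R R' S S') := by
  let e : Algebra.H1Cotangent R S' ≃ₗ[S] Algebra.H1Cotangent R' S' :=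
    LinearEquiv.ofBijective ((Algebra.H1Cotangent.map R R' S' S').restrictScalars S) (bijective_map_base R R' S')
  have h : Algebra.H1Cotangent.map R R' S S' = e.toLinearMap ∘ₗ Algebra.H1Cotangent.map R R S S' :=
    LinearMap.ext fun x => (map_comp x).symm
  rw [h]
  exact IsLocalizedModule.of_linearEquiv M _ e

end Loc

end NLSheafLib
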