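import Groth.Agent.NLSheafLib.Germ
import Mathlib.Topology.Sheaves.SheafCondition.UniqueGluing
import Mathlib.Algebra.Category.ModuleCat.Presheaf

/-!
# The sheaf of first cotangent homology
-/

set_option autoImplicit false
set_option backward.isDefEq.respectTransparency.types false
set_option maxHeartbeats 1000000

universe u

open CategoryTheory AlgebraicGeometry TopologicalSpace Opposite

noncomputable section

namespace NLSheafLib

variable {X Y : Scheme.{u}} (f : X ⟶ Y)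

/-- Families of germs over an open. -/
abbrev Fam (W : X.Opens) : Type u := ∀ x : W, H f (x : X)

instance famModule (W : X.Opens) : Module Γ(X, W) (Fam f W) where
  smul a s := fun x => X.presheaf.germ W (x : X) x.2 a • s x
  one_smul s := funext fun x =>
    (congrArg (· • s x) (map_one (X.presheaf.germ W (x : X) x.2).hom)).trans (one_smul _ _)
  mul_smul a b s := funext fun x =>
    (congrArg (· • s x) (map_mul (X.presheaf.germ W (x : X) x.2).hom a b)).trans (mul_smul _ _ _)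
  smul_zero a := funext fun x => smul_zero (X.presheaf.germ W (x : X) x.2 a)
  smul_add a s t := funext fun x => smul_add (X.presheaf.germ W (x : X) x.2 a) (s x) (t x)
  add_smul a b s := funext fun x =>
    (congrArg (· • s x) (map_add (X.presheaf.germ W (x : X) x.2).hom a b)).trans (add_smul _ _ _)
  zero_smul s := funext fun x =>
    (congrArg (· • s x) (map_zero (X.presheaf.germ W (x : X) x.2).hom)).trans (zero_smul _ _)

theorem fam_smul_apply {W : X.Opens} (a : Γ(X, W)) (s : Fam f W) (x : W) :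
    (a • s) x = X.presheaf.germ W (x : X) x.2 a • s x := rfl

/-- Locally the germs of an element of a chart. -/
def IsRep {W : X.Opens} (s : Fam f W) : Prop :=
  ∀ x : W, ∃ (U : X.affineOpens) (V : Y.affineOpens) (e : (U : X.Opens) ≤ f ⁻¹ᵁ (V : Y.Opens))
    (hU : (U : X.Opens) ≤ W) (_ : (x : X) ∈ (U : X.Opens)) (m : NLCx.ChartH1 f U V e),
    ∀ (y : X) (hy : y ∈ (U : X.Opens)), s ⟨y, hU hy⟩ = germH f U V e y hy m

/-- Charts below a given open. -/
theorem exists_chart (x : X) (W : X.Opens) (hx : x ∈ W) (T : Y.Opens) (hT : f x ∈ T) :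
    ∃ (U : X.affineOpens) (V : Y.affineOpens) (_ : (U : X.Opens) ≤ f ⁻¹ᵁ (V : Y.Opens)),
      x ∈ (U : X.Opens) ∧ (U : X.Opens) ≤ W ∧ (V : Y.Opens) ≤ T := by
  obtain ⟨V, hV, hxV, hVT⟩ := exists_isAffineOpen_mem_and_subset (U := T) hT
  obtain ⟨U, hU, hxU, hUW⟩ := exists_isAffineOpen_mem_and_subset (U := W ⊓ f ⁻¹ᵁ V) ⟨hx, hxV⟩
  exact ⟨⟨U, hU⟩, ⟨V, hV⟩, fun y hy => (hUW hy).2, hxU, fun y hy => (hUW hy).1, hVT⟩

variable {f}

/-- A chart representative can be moved below any open neighbourhood. -/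
theorem exists_rep_below {W : X.Opens} {s : Fam f W} (hs : IsRep f s) (x : W) (W' : X.Opens) (hx : (x : X) ∈ W')
    (T : Y.Opens) (hT : f (x : X) ∈ T) :
    ∃ (U : X.affineOpens) (V : Y.affineOpens) (e : (U : X.Opens) ≤ f ⁻¹ᵁ (V : Y.Opens))
      (hU : (U : X.Opens) ≤ W) (_ : (x : X) ∈ (U : X.Opens)) (m : NLCx.ChartH1 f U V e),
      (U : X.Opens) ≤ W' ∧ (V : Y.Opens) ≤ T ∧
      ∀ (y : X) (hy : y ∈ (U : X.Opens)), s ⟨y, hU hy⟩ = germH f U V e y hy m := by
  obtain ⟨U, V, e, hU, hxU, m, hm⟩ := hs x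
  obtain ⟨U', V', e', hxU', hU', hV'⟩ :=
    exists_chart f (x : X) ((U : X.Opens) ⊓ W') ⟨hxU, hx⟩ ((V : Y.Opens) ⊓ T) ⟨e hxU, hT⟩
  refine ⟨U', V', e', (hU'.trans inf_le_left).trans hU, hxU',
    NLCx.chartRes e e' (hU'.trans inf_le_left) (hV'.trans inf_le_left) m,
    hU'.trans inf_le_right, hV'.trans inf_le_right, fun y hy => ?_⟩
  rw [germH_chartRes]
  exact hm y _

theorem isRep_zero (W : X.Opens) : IsRep f (0 : Fam f W) := fun x => by
  obtain ⟨U, V, e, hxU, hUW, -⟩ := exists_chart f (x : X) W x.2 ⊤ trivial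
  exact ⟨U, V, e, hUW, hxU, 0, fun y hy => (map_zero _).symm⟩

theorem isRep_add {W : X.Opens} {s t : Fam f W} (hs : IsRep f s) (ht : IsRep f t) : IsRep f (s + t) := fun x => by
  obtain ⟨U₁, V₁, e₁, hU₁, hx₁, m₁, hm₁⟩ := hs x
  obtain ⟨U, V, e, hU, hxU, m, hUU, hVV, hm⟩ :=
    exists_rep_below ht x (U₁ : X.Opens) hx₁ (V₁ : Y.Opens) (e₁ hx₁)
  refine ⟨U, V, e, hU, hxU, NLCx.chartRes e₁ e hUU hVV m₁ + m, fun y hy => ?_⟩
  rw [map_add, germH_chartRes, ← hm₁ y (hUU hy), ← hm y hy]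
  rfl

theorem isRep_smul {W : X.Opens} (a : Γ(X, W)) {s : Fam f W} (hs : IsRep f s) : IsRep f (a • s) := fun x => by
  obtain ⟨U, V, e, hU, hxU, m, hm⟩ := hs x
  refine ⟨U, V, e, hU, hxU, X.presheaf.map (homOfLE hU).op a • m, fun y hy => ?_⟩
  rw [germH_smul, fam_smul_apply, ← hm y hy, TopCat.Presheaf.germ_res_apply]

theorem isRep_res {W W' : X.Opens} (h : W' ≤ W) {s : Fam f W} (hs : IsRep f s) :
    IsRep f (fun x : W' => s ⟨x, h x.2⟩) := fun x => by
  obtain ⟨U, V, e, hU, hxU, m, hUW, -, hm⟩ := exists_rep_below hs ⟨x, h x.2⟩ W' x.2 ⊤ trivial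
  exact ⟨U, V, e, hUW, hxU, m, fun y hy => hm y hy⟩

variable (f)

/-- Sections of the sheaf. -/
def sec (W : X.Opens) : Submodule Γ(X, W) (Fam f W) where
  carrier := {s | IsRep f s}
  zero_mem' := isRep_zero W
  add_mem' := isRep_add
  smul_mem' a _ := isRep_smul a

/-- The presheaf of sections. -/
def pre : TopCat.Presheaf AddCommGrpCat.{u} X.toTopCat where
  obj W := AddCommGrpCat.of (sec f W.unop)
  map {W W'} i := AddCommGrpCat.ofHom
    (AddMonoidHom.mk' (fun s => (⟨fun x => s.1 ⟨x, i.unop.le x.2⟩, isRep_res i.unop.le s.2⟩ : sec f W'.unop))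
      fun _ _ => rfl)

instance preModule (W : (Opens X)ᵒᵖ) : Module (X.ringCatSheaf.obj.obj W) ((pre f).obj W) :=
  inferInstanceAs (Module Γ(X, W.unop) (sec f W.unop))

theorem pre_map_apply {W W' : (Opens X)ᵒᵖ} (i : W ⟶ W') (s : (pre f).obj W) (x : W'.unop) :
    (show sec f W'.unop from (pre f).map i s).1 x = (show sec f W.unop from s).1 ⟨(x : X), i.unop.le x.2⟩ := rfl

theorem smul_val (W : (Opens X)ᵒᵖ) (a : X.ringCatSheaf.obj.obj W) (s : (pre f).obj W) (x : W.unop) :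
    (show sec f W.unop from a • s).1 x =
      X.presheaf.germ W.unop (x : X) x.2 (show Γ(X, W.unop) from a) • (show sec f W.unop from s).1 x := rfl

/-- As a presheaf of modules. -/
def pmod : X.PresheafOfModules :=
  PresheafOfModules.ofPresheaf (pre f) fun W W' i a s => Subtype.ext (funext fun x => by
    change (show sec f W'.unop from (pre f).map i (a • s)).1 x =
      (show sec f W'.unop from (X.ringCatSheaf.obj.map i a) • (pre f).map i s).1 x
    rw [pre_map_apply, smul_val, smul_val, pre_map_apply]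
    exact congrArg (· • (show sec f W.unop from s).1 ⟨(x : X), i.unop.le x.2⟩)
      (TopCat.Presheaf.germ_res_apply X.presheaf i.unop (x : X) x.2 a).symm)

theorem isSheaf : TopCat.Presheaf.IsSheaf (pre f) := by
  classical
  rw [TopCat.Presheaf.isSheaf_iff_isSheafUniqueGluing]
  intro ι U sf hsf
  let g : Fam f (iSup U) := fun x =>
    (show sec f (U (Opens.mem_iSup.mp x.2).choose) from sf _).1 ⟨x, (Opens.mem_iSup.mp x.2).choose_spec⟩
  have hg : ∀ (i : ι) (x : X) (hx : x ∈ U i), g ⟨x, Opens.mem_iSup.mpr ⟨i, hx⟩⟩ = (show sec f (U i) from sf i).1 ⟨x, hx⟩ :=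
    fun i x hx => by
      have hI : x ∈ iSup U := Opens.mem_iSup.mpr ⟨i, hx⟩
      exact congr_fun (congr_arg Subtype.val (hsf (Opens.mem_iSup.mp hI).choose i))
        ⟨x, (Opens.mem_iSup.mp hI).choose_spec, hx⟩
  refine ⟨⟨g, fun x => ?_⟩, fun i => Subtype.ext (funext fun x => hg i x x.2), fun s hs => Subtype.ext (funext fun x => ?_)⟩
  · obtain ⟨i, hi⟩ := Opens.mem_iSup.mp x.2
    obtain ⟨U', V', e, hU, hxU, m, hm⟩ := (show sec f (U i) from sf i).2 ⟨x, hi⟩
    exact ⟨U', V', e, hU.trans (le_iSup U i), hxU, m, fun y hy => (hg i y (hU hy)).trans (hm y hy)⟩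
  · exact congr_fun (congr_arg Subtype.val (hs (Opens.mem_iSup.mp x.2).choose))
      ⟨x, (Opens.mem_iSup.mp x.2).choose_spec⟩

/-- The sheaf of first cotangent homology. -/
def sheaf : X.Modules := ⟨pmod f, isSheaf f⟩

/-- The germs of an element of a chart. -/
def toSec (U : X.affineOpens) (V : Y.affineOpens) (e : (U : X.Opens) ≤ f ⁻¹ᵁ (V : Y.Opens)) :
    NLCx.ChartH1 f U V e →+ sec f (U : X.Opens) where
  toFun m := ⟨fun x => germH f U V e x x.2 m, fun x => ⟨U, V, e, le_rfl, x.2, m, fun _ _ => rfl⟩⟩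
  map_zero' := Subtype.ext (funext fun x => map_zero _)
  map_add' _ _ := Subtype.ext (funext fun x => map_add _ _ _)

variable {f}

theorem exists_pow_smul_eq_zero {U : X.affineOpens} {V : Y.affineOpens}
    {e : (U : X.Opens) ≤ f ⁻¹ᵁ (V : Y.Opens)} (a : Γ(X, (U : X.Opens))) (m : NLCx.ChartH1 f U V e)
    (h : ∀ (y : X) (hy : y ∈ (U : X.Opens)), y ∈ X.basicOpen a → germH f U V e y hy m = 0) :
    ∃ n : ℕ, a ^ n • m = 0 := by
  let I : Ideal Γ(X, (U : X.Opens)) := LinearMap.ker (LinearMap.toSpanSingleton _ _ m)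
  have hI : ∀ c, c ∈ I ↔ c • m = 0 := fun c => Iff.rfl
  have ha : a ∈ I.radical := by
    rw [Ideal.radical_eq_sInf, Submodule.mem_sInf]
    rintro P ⟨hIP, hP⟩
    by_contra haP
    let q : Spec Γ(X, (U : X.Opens)) := ⟨P, hP⟩
    have hy : U.2.fromSpec q ∈ (U : X.Opens) := by
      have : U.2.fromSpec q ∈ Set.range U.2.fromSpec := ⟨q, rfl⟩
      rwa [U.2.range_fromSpec] at this
    have hq : U.2.primeIdealOf ⟨_, hy⟩ = q :=
      U.2.fromSpec.isOpenEmbedding.injective (U.2.fromSpec_primeIdealOf ⟨_, hy⟩)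
    have hya : U.2.fromSpec q ∈ X.basicOpen a := by
      refine (mem_basicOpen_iff_primeIdealOf U.2 ⟨_, hy⟩ a).2 ?_
      rw [hq]
      exact haP
    obtain ⟨c, hc, hcm⟩ := (germH_loc U V e _ hy).1 m (h _ hy hya)
    have := (mem_basicOpen_iff_primeIdealOf U.2 ⟨_, hy⟩ c).1 hc
    rw [hq] at this
    exact this (hIP ((hI c).2 hcm))
  obtain ⟨n, hn⟩ := Ideal.mem_radical_iff.1 ha
  exact ⟨n, (hI _).1 hn⟩

theorem toSec_bijective (U : X.affineOpens) (V : Y.affineOpens) (e : (U : X.Opens) ≤ f ⁻¹ᵁ (V : Y.Opens)) :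
    Function.Bijective (toSec f U V e) := by
  classical
  refine ⟨(injective_iff_map_eq_zero _).2 fun m hm => ?_, fun ⟨s, hs⟩ => ?_⟩
  · obtain ⟨n, hn⟩ := exists_pow_smul_eq_zero (1 : Γ(X, (U : X.Opens))) m
      (fun y hy _ => congr_fun (congr_arg Subtype.val hm) ⟨y, hy⟩)
    simpa using hn
  -- local fractions
  have hloc : ∀ x : (U : X.Opens), ∃ (a : Γ(X, (U : X.Opens))) (m : NLCx.ChartH1 f U V e),
      (x : X) ∈ X.basicOpen a ∧ ∀ (y : X) (hy : y ∈ (U : X.Opens)), y ∈ X.basicOpen a →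
        X.presheaf.germ (U : X.Opens) y hy a • s ⟨y, hy⟩ = germH f U V e y hy m := by
    intro x
    obtain ⟨a, m, hxa, hm⟩ := (germH_loc U V e (x : X) x.2).2 (s x)
    obtain ⟨U', V', e', hU', hxU', m', hUa, hVV, hm'⟩ :=
      exists_rep_below hs x (X.basicOpen a) hxa (V : Y.Opens) (e x.2)
    let z := X.presheaf.map (homOfLE hU').op a • m' - NLCx.chartRes e e' hU' hVV m
    have hz : germH f U' V' e' (x : X) hxU' z = 0 := by
      rw [map_sub, germH_smul, germH_chartRes, TopCat.Presheaf.germ_res_apply, ← hm' _ hxU']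
      exact sub_eq_zero.2 hm
    obtain ⟨b, hxb, hbz⟩ := (germH_loc U' V' e' (x : X) hxU').1 z hz
    obtain ⟨c, hcle, hxc⟩ := U.2.exists_basicOpen_le (V := X.basicOpen b) ⟨(x : X), hxb⟩ x.2
    refine ⟨c * a, c • m, by rw [X.basicOpen_mul]; exact ⟨hxc, hxa⟩, fun y hy hyca => ?_⟩
    rw [X.basicOpen_mul] at hyca
    have hyU' : y ∈ (U' : X.Opens) := X.basicOpen_le b (hcle hyca.1)
    have hb : IsUnit (X.presheaf.germ (U' : X.Opens) y hyU' b) :=
      (X.mem_basicOpen b y hyU').1 (hcle hyca.1)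
    have h0 := congrArg (germH f U' V' e' y hyU') hbz
    rw [map_zero, germH_smul, hb.smul_eq_zero, map_sub, germH_smul, germH_chartRes,
      TopCat.Presheaf.germ_res_apply, ← hm' y hyU', sub_eq_zero] at h0
    rw [map_mul, mul_smul, h0, germH_smul]
  choose a m hxa hm using hloc
  obtain ⟨t, ht⟩ := U.2.isCompact.elim_finite_subcover (fun x : (U : X.Opens) => (X.basicOpen (a x) : Set X))
    (fun x => (X.basicOpen (a x)).2) (fun y hy => Set.mem_iUnion.2 ⟨⟨y, hy⟩, hxa ⟨y, hy⟩⟩)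
  -- overlaps
  have hov : ∀ i j : (U : X.Opens), ∃ n : ℕ, (a i * a j) ^ n • (a i • m j - a j • m i) = 0 := fun i j =>
    exists_pow_smul_eq_zero _ _ fun y hy hyij => by
      rw [X.basicOpen_mul] at hyij
      rw [map_sub, germH_smul, germH_smul, ← hm j y hy hyij.2, ← hm i y hy hyij.1, smul_comm, sub_self]
  choose N hN using hov
  let n := t.sup fun i => t.sup fun j => N i j
  have hn : ∀ i ∈ t, ∀ j ∈ t, a i ^ (n + 1) • a j ^ n • m j = a j ^ (n + 1) • a i ^ n • m i := by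
    intro i hi j hj
    have h1 : N i j ≤ n := (Finset.le_sup (f := fun j => N i j) hj).trans
      (Finset.le_sup (f := fun i => t.sup fun j => N i j) hi)
    obtain ⟨k, hk⟩ := Nat.exists_eq_add_of_le h1
    have h2 : (a i * a j) ^ n • (a i • m j - a j • m i) = 0 := by
      rw [hk, pow_add, mul_comm, mul_smul, hN, smul_zero]
    rw [smul_sub, sub_eq_zero, smul_smul, smul_smul] at h2
    rw [smul_smul, smul_smul]
    convert h2 using 2 <;> ring
  have htop : Ideal.span ((fun i => a i ^ (n + 1)) '' ↑t) = ⊤ := by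
    by_contra hne
    obtain ⟨P, hP, hle⟩ := Ideal.exists_le_maximal _ hne
    let q : Spec Γ(X, (U : X.Opens)) := ⟨P, hP.isPrime⟩
    have hy : U.2.fromSpec q ∈ (U : X.Opens) := by
      have : U.2.fromSpec q ∈ Set.range U.2.fromSpec := ⟨q, rfl⟩
      rwa [U.2.range_fromSpec] at this
    have hq : U.2.primeIdealOf ⟨_, hy⟩ = q :=
      U.2.fromSpec.isOpenEmbedding.injective (U.2.fromSpec_primeIdealOf ⟨_, hy⟩)
    obtain ⟨i, hi, hyi⟩ := Set.mem_iUnion₂.1 (ht hy)
    have := (mem_basicOpen_iff_primeIdealOf U.2 ⟨_, hy⟩ (a i)).1 hyi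
    rw [hq] at this
    exact this (hP.isPrime.mem_of_pow_mem _ (hle (Ideal.subset_span ⟨i, hi, rfl⟩)))
  obtain ⟨r, hr⟩ := (Submodule.mem_span_image_finset_iff_exists_fun' _).1 (show (1 : Γ(X, (U : X.Opens))) ∈
    Ideal.span ((fun i => a i ^ (n + 1)) '' ↑t) by rw [htop]; trivial)
  refine ⟨∑ i ∈ t, r i • a i ^ n • m i, Subtype.ext (funext fun y => ?_)⟩
  obtain ⟨j, hj, hyj⟩ := Set.mem_iUnion₂.1 (ht y.2)
  have key : a j ^ (n + 1) • ∑ i ∈ t, r i • a i ^ n • m i = a j ^ n • m j := by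
    rw [Finset.smul_sum]
    calc ∑ i ∈ t, a j ^ (n + 1) • r i • a i ^ n • m i
        = ∑ i ∈ t, r i • a i ^ (n + 1) • a j ^ n • m j :=
          Finset.sum_congr rfl fun i hi => by rw [smul_comm, hn j hj i hi]
      _ = (∑ i ∈ t, r i • a i ^ (n + 1)) • a j ^ n • m j := by
          rw [Finset.sum_smul]
          exact Finset.sum_congr rfl fun i hi => (smul_assoc _ _ _).symm
      _ = a j ^ n • m j := by rw [hr, one_smul]
  change germH f U V e y y.2 _ = s y
  have hu : IsUnit (X.presheaf.germ (U : X.Opens) (y : X) y.2 (a j ^ (n + 1))) := by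
    rw [map_pow]
    exact ((X.mem_basicOpen (a j) y y.2).1 hyj).pow _
  rw [← hu.smul_left_cancel, ← germH_smul, key, germH_smul, ← hm j y y.2 hyj, smul_smul, ← map_mul, ← pow_succ]

variable (f)

/-- The sections over a chart. -/
def secEquiv (U : X.affineOpens) (V : Y.affineOpens) (e : (U : X.Opens) ≤ f ⁻¹ᵁ (V : Y.Opens)) :
    ((sheaf f).val.obj (op (U : X.Opens)) : Type u) ≃+ NLCx.ChartH1 f U V e :=
  (AddEquiv.ofBijective (toSec f U V e) (toSec_bijective U V e)).symm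

theorem eq_secEquiv {U : X.affineOpens} {V : Y.affineOpens} {e : (U : X.Opens) ≤ f ⁻¹ᵁ (V : Y.Opens)}
    (s : (sheaf f).val.obj (op (U : X.Opens))) (x : (U : X.Opens)) :
    (show sec f (U : X.Opens) from s).1 x = germH f U V e x x.2 (secEquiv f U V e s) :=
  (congr_fun (congr_arg Subtype.val
    (AddEquiv.apply_symm_apply (AddEquiv.ofBijective (toSec f U V e) (toSec_bijective U V e)) s)) x).symm

theorem secEquiv_eq {U : X.affineOpens} {V : Y.affineOpens} {e : (U : X.Opens) ≤ f ⁻¹ᵁ (V : Y.Opens)}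
    (s : (sheaf f).val.obj (op (U : X.Opens))) (m : NLCx.ChartH1 f U V e)
    (h : ∀ x : (U : X.Opens), (show sec f (U : X.Opens) from s).1 x = germH f U V e x x.2 m) :
    secEquiv f U V e s = m :=
  (AddEquiv.symm_apply_eq _).2 (Subtype.ext (funext h))

/-- The comparison with charts. -/
def h1Sheaf : NLCx.H1Sheaf f (sheaf f) where
  iso U V e := secEquiv f U V e
  map_smul U V e a s := secEquiv_eq f _ _ fun x => by
    rw [germH_smul]
    change X.presheaf.germ (U : X.Opens) (x : X) x.2 a • (show sec f (U : X.Opens) from s).1 x = _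
    rw [eq_secEquiv f s x]
  map_res {U U' V V'} e e' hU hV s := secEquiv_eq f _ _ fun x => by
    rw [germH_chartRes]
    exact eq_secEquiv f s ⟨x, hU x.2⟩

end NLSheafLib
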