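import Groth.Prelude.Def_SheafNL
import Groth.Agent.NLSheafLib.Base
import Mathlib.AlgebraicGeometry.AffineScheme

/-!
# Germs of the first cotangent homology of a chart
-/

set_option autoImplicit false
set_option backward.isDefEq.respectTransparency.types false
set_option maxHeartbeats 1000000

universe u

open CategoryTheory AlgebraicGeometry TopologicalSpace Opposite

noncomputable section

namespace NLSheafLib

variable {X Y : Scheme.{u}} (f : X ⟶ Y)

/-- The first cotangent homology of the local ring map at a point. -/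
abbrev H (x : X) : Type u :=
  letI := (f.stalkMap x).hom.toAlgebra
  Algebra.H1Cotangent (Y.presheaf.stalk (f x)) (X.presheaf.stalk x)

/-- The germ of an element of the first cotangent homology of a chart. -/
def germH (U : X.affineOpens) (V : Y.affineOpens) (e : (U : X.Opens) ≤ f ⁻¹ᵁ (V : Y.Opens)) (x : X)
    (hx : x ∈ (U : X.Opens)) : NLCx.ChartH1 f U V e →+ H f x :=
  letI := (f.appLE (V : Y.Opens) (U : X.Opens) e).hom.toAlgebra
  letI := (f.stalkMap x).hom.toAlgebra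
  letI := (Y.presheaf.germ (V : Y.Opens) (f x) (e hx)).hom.toAlgebra
  letI := (X.presheaf.germ (U : X.Opens) x hx).hom.toAlgebra
  letI := (f.appLE (V : Y.Opens) (U : X.Opens) e ≫ X.presheaf.germ (U : X.Opens) x hx).hom.toAlgebra
  haveI : IsScalarTower Γ(Y, (V : Y.Opens)) Γ(X, (U : X.Opens)) (X.presheaf.stalk x) :=
    IsScalarTower.of_algebraMap_eq' rfl
  haveI : IsScalarTower Γ(Y, (V : Y.Opens)) (Y.presheaf.stalk (f x)) (X.presheaf.stalk x) :=
    IsScalarTower.of_algebraMap_eq' (by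
      change (f.appLE _ _ e ≫ X.presheaf.germ _ x hx).hom = (f.stalkMap x).hom.comp (Y.presheaf.germ _ (f x) (e hx)).hom
      rw [← CommRingCat.hom_comp, Scheme.Hom.germ_stalkMap, Scheme.Hom.appLE, Category.assoc,
        TopCat.Presheaf.germ_res])
  (Algebra.H1Cotangent.map Γ(Y, (V : Y.Opens)) (Y.presheaf.stalk (f x)) Γ(X, (U : X.Opens))
    (X.presheaf.stalk x)).toAddMonoidHom

variable {f}

theorem germH_smul (U : X.affineOpens) (V : Y.affineOpens) (e : (U : X.Opens) ≤ f ⁻¹ᵁ (V : Y.Opens)) (x : X)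
    (hx : x ∈ (U : X.Opens)) (a : Γ(X, (U : X.Opens))) (m : NLCx.ChartH1 f U V e) :
    germH f U V e x hx (a • m) = X.presheaf.germ (U : X.Opens) x hx a • germH f U V e x hx m := by
  letI := (f.appLE (V : Y.Opens) (U : X.Opens) e).hom.toAlgebra
  letI := (f.stalkMap x).hom.toAlgebra
  letI := (Y.presheaf.germ (V : Y.Opens) (f x) (e hx)).hom.toAlgebra
  letI := (X.presheaf.germ (U : X.Opens) x hx).hom.toAlgebra
  letI := (f.appLE (V : Y.Opens) (U : X.Opens) e ≫ X.presheaf.germ (U : X.Opens) x hx).hom.toAlgebra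
  haveI : IsScalarTower Γ(Y, (V : Y.Opens)) Γ(X, (U : X.Opens)) (X.presheaf.stalk x) :=
    IsScalarTower.of_algebraMap_eq' rfl
  haveI : IsScalarTower Γ(Y, (V : Y.Opens)) (Y.presheaf.stalk (f x)) (X.presheaf.stalk x) :=
    IsScalarTower.of_algebraMap_eq' (by
      change (f.appLE _ _ e ≫ X.presheaf.germ _ x hx).hom = (f.stalkMap x).hom.comp (Y.presheaf.germ _ (f x) (e hx)).hom
      rw [← CommRingCat.hom_comp, Scheme.Hom.germ_stalkMap, Scheme.Hom.appLE, Category.assoc,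
        TopCat.Presheaf.germ_res])
  exact ((Algebra.H1Cotangent.map Γ(Y, (V : Y.Opens)) (Y.presheaf.stalk (f x)) Γ(X, (U : X.Opens))
    (X.presheaf.stalk x)).map_smul a m).trans (algebraMap_smul (X.presheaf.stalk x) a _).symm

theorem germH_chartRes {U U' : X.affineOpens} {V V' : Y.affineOpens}
    (e : (U : X.Opens) ≤ f ⁻¹ᵁ (V : Y.Opens)) (e' : (U' : X.Opens) ≤ f ⁻¹ᵁ (V' : Y.Opens))
    (hU : (U' : X.Opens) ≤ (U : X.Opens)) (hV : (V' : Y.Opens) ≤ (V : Y.Opens)) (x : X)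
    (hx : x ∈ (U' : X.Opens)) (m : NLCx.ChartH1 f U V e) :
    germH f U' V' e' x hx (NLCx.chartRes e e' hU hV m) = germH f U V e x (hU hx) m := by
  letI := (f.appLE (V : Y.Opens) (U : X.Opens) e).hom.toAlgebra
  letI := (f.appLE (V' : Y.Opens) (U' : X.Opens) e').hom.toAlgebra
  letI := (f.appLE (V : Y.Opens) (U' : X.Opens) (hU.trans e)).hom.toAlgebra
  letI := (X.presheaf.map (homOfLE hU).op).hom.toAlgebra
  letI := (Y.presheaf.map (homOfLE hV).op).hom.toAlgebra
  haveI : IsScalarTower Γ(Y, (V : Y.Opens)) Γ(Y, (V' : Y.Opens)) Γ(X, (U' : X.Opens)) :=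
    IsScalarTower.of_algebraMap_eq' (by
      change (f.appLE _ _ _).hom = (f.appLE _ _ _).hom.comp (Y.presheaf.map _).hom
      rw [← CommRingCat.hom_comp, Scheme.Hom.map_appLE])
  haveI : IsScalarTower Γ(Y, (V : Y.Opens)) Γ(X, (U : X.Opens)) Γ(X, (U' : X.Opens)) :=
    IsScalarTower.of_algebraMap_eq' (by
      change (f.appLE _ _ _).hom = (X.presheaf.map _).hom.comp (f.appLE _ _ _).hom
      rw [← CommRingCat.hom_comp, Scheme.Hom.appLE_map])
  letI := (f.stalkMap x).hom.toAlgebra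
  letI := (Y.presheaf.germ (V' : Y.Opens) (f x) (e' hx)).hom.toAlgebra
  letI := (Y.presheaf.germ (V : Y.Opens) (f x) (e (hU hx))).hom.toAlgebra
  letI := (X.presheaf.germ (U' : X.Opens) x hx).hom.toAlgebra
  letI := (X.presheaf.germ (U : X.Opens) x (hU hx)).hom.toAlgebra
  letI := (f.appLE (V' : Y.Opens) (U' : X.Opens) e' ≫ X.presheaf.germ (U' : X.Opens) x hx).hom.toAlgebra
  letI := (f.appLE (V : Y.Opens) (U : X.Opens) e ≫ X.presheaf.germ (U : X.Opens) x (hU hx)).hom.toAlgebra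
  haveI : IsScalarTower Γ(Y, (V : Y.Opens)) Γ(X, (U : X.Opens)) (X.presheaf.stalk x) :=
    IsScalarTower.of_algebraMap_eq' rfl
  haveI : IsScalarTower Γ(Y, (V' : Y.Opens)) Γ(X, (U' : X.Opens)) (X.presheaf.stalk x) :=
    IsScalarTower.of_algebraMap_eq' rfl
  haveI : IsScalarTower Γ(Y, (V' : Y.Opens)) (Y.presheaf.stalk (f x)) (X.presheaf.stalk x) :=
    IsScalarTower.of_algebraMap_eq' (by
      change (f.appLE _ _ e' ≫ X.presheaf.germ _ x hx).hom = (f.stalkMap x).hom.comp (Y.presheaf.germ _ (f x) (e' hx)).hom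
      rw [← CommRingCat.hom_comp, Scheme.Hom.germ_stalkMap, Scheme.Hom.appLE, Category.assoc,
        TopCat.Presheaf.germ_res])
  haveI : IsScalarTower Γ(Y, (V : Y.Opens)) (Y.presheaf.stalk (f x)) (X.presheaf.stalk x) :=
    IsScalarTower.of_algebraMap_eq' (by
      change (f.appLE _ _ e ≫ X.presheaf.germ _ x (hU hx)).hom =
        (f.stalkMap x).hom.comp (Y.presheaf.germ _ (f x) (e (hU hx))).hom
      rw [← CommRingCat.hom_comp, Scheme.Hom.germ_stalkMap, Scheme.Hom.appLE, Category.assoc,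
        TopCat.Presheaf.germ_res])
  haveI : IsScalarTower Γ(Y, (V : Y.Opens)) Γ(Y, (V' : Y.Opens)) (Y.presheaf.stalk (f x)) :=
    IsScalarTower.of_algebraMap_eq' (by
      change (Y.presheaf.germ _ _ _).hom = (Y.presheaf.germ _ _ _).hom.comp (Y.presheaf.map _).hom
      rw [← CommRingCat.hom_comp, TopCat.Presheaf.germ_res])
  haveI : IsScalarTower Γ(X, (U : X.Opens)) Γ(X, (U' : X.Opens)) (X.presheaf.stalk x) :=
    IsScalarTower.of_algebraMap_eq' (by
      change (X.presheaf.germ _ _ _).hom = (X.presheaf.germ _ _ _).hom.comp (X.presheaf.map _).hom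
      rw [← CommRingCat.hom_comp, TopCat.Presheaf.germ_res])
  exact map_comp (R₀ := Γ(Y, (V : Y.Opens))) (R₁ := Γ(Y, (V' : Y.Opens))) (R₂ := Y.presheaf.stalk (f x))
    (S₀ := Γ(X, (U : X.Opens))) (S₁ := Γ(X, (U' : X.Opens))) (S₂ := X.presheaf.stalk x) m

/-- Membership in a basic open, through the prime of the point. -/
theorem mem_basicOpen_iff_primeIdealOf {U : X.Opens} (hU : IsAffineOpen U) (x : U) (a : Γ(X, U)) :
    (x : X) ∈ X.basicOpen a ↔ a ∈ (hU.primeIdealOf x).asIdeal.primeCompl := by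
  rw [X.mem_basicOpen a x x.2]
  letI := TopCat.Presheaf.algebra_section_stalk X.presheaf x
  haveI := hU.isLocalization_stalk x
  exact IsLocalization.AtPrime.isUnit_to_map_iff (X.presheaf.stalk (x : X)) (hU.primeIdealOf x).asIdeal a

/-- The germ map is the localisation at the point. -/
theorem germH_loc (U : X.affineOpens) (V : Y.affineOpens) (e : (U : X.Opens) ≤ f ⁻¹ᵁ (V : Y.Opens)) (x : X)
    (hx : x ∈ (U : X.Opens)) :
    (∀ m : NLCx.ChartH1 f U V e, germH f U V e x hx m = 0 → ∃ a : Γ(X, (U : X.Opens)), x ∈ X.basicOpen a ∧ a • m = 0) ∧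
    (∀ h : H f x, ∃ (a : Γ(X, (U : X.Opens))) (m : NLCx.ChartH1 f U V e), x ∈ X.basicOpen a ∧
      X.presheaf.germ (U : X.Opens) x hx a • h = germH f U V e x hx m) := by
  letI := (f.appLE (V : Y.Opens) (U : X.Opens) e).hom.toAlgebra
  letI := (f.stalkMap x).hom.toAlgebra
  letI := (Y.presheaf.germ (V : Y.Opens) (f x) (e hx)).hom.toAlgebra
  letI := (X.presheaf.germ (U : X.Opens) x hx).hom.toAlgebra
  letI := (f.appLE (V : Y.Opens) (U : X.Opens) e ≫ X.presheaf.germ (U : X.Opens) x hx).hom.toAlgebra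
  haveI : IsScalarTower Γ(Y, (V : Y.Opens)) Γ(X, (U : X.Opens)) (X.presheaf.stalk x) :=
    IsScalarTower.of_algebraMap_eq' rfl
  haveI : IsScalarTower Γ(Y, (V : Y.Opens)) (Y.presheaf.stalk (f x)) (X.presheaf.stalk x) :=
    IsScalarTower.of_algebraMap_eq' (by
      change (f.appLE _ _ e ≫ X.presheaf.germ _ x hx).hom = (f.stalkMap x).hom.comp (Y.presheaf.germ _ (f x) (e hx)).hom
      rw [← CommRingCat.hom_comp, Scheme.Hom.germ_stalkMap, Scheme.Hom.appLE, Category.assoc,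
        TopCat.Presheaf.germ_res])
  haveI : IsLocalization.AtPrime (X.presheaf.stalk x) (U.2.primeIdealOf ⟨x, hx⟩).asIdeal :=
    U.2.isLocalization_stalk ⟨x, hx⟩
  haveI : IsLocalization.AtPrime (Y.presheaf.stalk (f x)) (V.2.primeIdealOf ⟨f x, e hx⟩).asIdeal :=
    V.2.isLocalization_stalk ⟨f x, e hx⟩
  haveI : Algebra.FormallyEtale Γ(Y, (V : Y.Opens)) (Y.presheaf.stalk (f x)) :=
    Algebra.FormallyEtale.of_isLocalization (V.2.primeIdealOf ⟨f x, e hx⟩).asIdeal.primeCompl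
  let φ := Algebra.H1Cotangent.map Γ(Y, (V : Y.Opens)) (Y.presheaf.stalk (f x)) Γ(X, (U : X.Opens))
    (X.presheaf.stalk x)
  haveI : IsLocalizedModule (U.2.primeIdealOf ⟨x, hx⟩).asIdeal.primeCompl φ :=
    isLocalizedModule_map (U.2.primeIdealOf ⟨x, hx⟩).asIdeal.primeCompl
  refine ⟨fun m hm => ?_, fun h => ?_⟩
  · obtain ⟨⟨c, hc⟩, hcm⟩ := (IsLocalizedModule.eq_zero_iff (U.2.primeIdealOf ⟨x, hx⟩).asIdeal.primeCompl φ).1 hm
    exact ⟨c, (mem_basicOpen_iff_primeIdealOf U.2 ⟨x, hx⟩ c).2 hc, hcm⟩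
  · obtain ⟨⟨m, ⟨c, hc⟩⟩, hcm⟩ := IsLocalizedModule.surj (U.2.primeIdealOf ⟨x, hx⟩).asIdeal.primeCompl φ h
    exact ⟨c, m, (mem_basicOpen_iff_primeIdealOf U.2 ⟨x, hx⟩ c).2 hc,
      (algebraMap_smul (X.presheaf.stalk x) c h).trans hcm⟩

end NLSheafLib
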