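import Groth.Agent.NLSheafLib.Sheaf
import Groth.Agent.QCohLib.Affine

/-!
# Modules with charts given by first cotangent homology are quasi-coherent
-/

set_option autoImplicit false
set_option backward.isDefEq.respectTransparency.types false
set_option maxHeartbeats 1000000

universe u

open CategoryTheory AlgebraicGeometry TopologicalSpace Opposite

namespace NLSheafLib

variable {X Y : Scheme.{u}} {f : X ⟶ Y}

theorem isLocalizedModule_chartRes' {U : X.affineOpens} {V V' : Y.affineOpens}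
    (e : (U : X.Opens) ≤ f ⁻¹ᵁ (V : Y.Opens)) (g : Γ(X, (U : X.Opens)))
    (e' : ((X.affineBasicOpen g : X.affineOpens) : X.Opens) ≤ f ⁻¹ᵁ (V' : Y.Opens))
    (hV : (V' : Y.Opens) ≤ (V : Y.Opens)) (hV' : (V : Y.Opens) ≤ (V' : Y.Opens)) :
    let r : Γ(X, ((X.affineBasicOpen g : X.affineOpens) : X.Opens)) := X.presheaf.map (homOfLE (X.basicOpen_le g)).op g
    (∀ m, NLCx.chartRes e e' (X.basicOpen_le g) hV m = 0 → ∃ n : ℕ, g ^ n • m = 0) ∧
      ∀ h, ∃ (n : ℕ) (m : NLCx.ChartH1 f U V e),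
        NLCx.chartRes e e' (X.basicOpen_le g) hV m = r ^ n • h := by
  intro r
  letI := (f.appLE (V : Y.Opens) (U : X.Opens) e).hom.toAlgebra
  letI := (f.appLE (V' : Y.Opens) (X.basicOpen g) e').hom.toAlgebra
  letI := (f.appLE (V : Y.Opens) (X.basicOpen g) ((X.basicOpen_le g).trans e)).hom.toAlgebra
  letI := (X.presheaf.map (homOfLE (X.basicOpen_le g)).op).hom.toAlgebra
  letI := (Y.presheaf.map (homOfLE hV).op).hom.toAlgebra
  haveI : IsIso (homOfLE hV) := ⟨homOfLE hV', rfl, rfl⟩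
  haveI : IsScalarTower Γ(Y, (V : Y.Opens)) Γ(Y, (V' : Y.Opens)) Γ(X, X.basicOpen g) :=
    IsScalarTower.of_algebraMap_eq' (by
      change (f.appLE _ _ _).hom = (f.appLE _ _ _).hom.comp (Y.presheaf.map _).hom
      rw [← CommRingCat.hom_comp, Scheme.Hom.map_appLE])
  haveI : IsScalarTower Γ(Y, (V : Y.Opens)) Γ(X, (U : X.Opens)) Γ(X, X.basicOpen g) :=
    IsScalarTower.of_algebraMap_eq' (by
      change (f.appLE _ _ _).hom = (X.presheaf.map _).hom.comp (f.appLE _ _ _).hom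
      rw [← CommRingCat.hom_comp, Scheme.Hom.appLE_map])
  haveI : Algebra.FormallyEtale Γ(Y, (V : Y.Opens)) Γ(Y, (V' : Y.Opens)) :=
    Algebra.FormallyEtale.of_equiv (AlgEquiv.ofBijective (Algebra.ofId Γ(Y, (V : Y.Opens)) Γ(Y, (V' : Y.Opens)))
      (ConcreteCategory.bijective_of_isIso (Y.presheaf.map (homOfLE hV).op)))
  haveI : IsLocalization.Away g Γ(X, X.basicOpen g) := U.2.isLocalization_basicOpen g
  let φ := Algebra.H1Cotangent.map Γ(Y, (V : Y.Opens)) Γ(Y, (V' : Y.Opens)) Γ(X, (U : X.Opens)) Γ(X, X.basicOpen g)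
  haveI : IsLocalizedModule (.powers g) φ := isLocalizedModule_map (Submonoid.powers g)
  refine ⟨fun m hm => ?_, fun h => ?_⟩
  · obtain ⟨⟨_, n, rfl⟩, hn⟩ := (IsLocalizedModule.eq_zero_iff (Submonoid.powers g) φ).1 hm
    exact ⟨n, hn⟩
  · obtain ⟨⟨m, ⟨_, n, rfl⟩⟩, hn⟩ := IsLocalizedModule.surj (Submonoid.powers g) φ h
    refine ⟨n, m, ?_⟩
    change φ m = _
    rw [show r ^ n = algebraMap Γ(X, (U : X.Opens)) Γ(X, X.basicOpen g) (g ^ n) from (map_pow _ g n).symm]
    refine hn.symm.trans ?_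
    let h₀ : Algebra.H1Cotangent Γ(Y, (V' : Y.Opens)) Γ(X, X.basicOpen g) := h
    exact (algebraMap_smul Γ(X, X.basicOpen g) (g ^ n) h₀).symm

/-- A module with charts given by first cotangent homology is quasi-coherent. -/
theorem isQCoh_of_h1Sheaf (F : X.Modules) (c : NLCx.H1Sheaf f F) : Coh.IsQCoh F := by
  choose U V e hxU _ _ using fun x : X => exists_chart f x ⊤ trivial ⊤ trivial
  refine QCohLib.isQCoh_of_localizingAt F (fun x => (U x : X.Opens)) (fun x => (U x).2)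
    (top_le_iff.1 fun x _ => Opens.mem_iSup.mpr ⟨x, hxU x⟩) fun x g => ?_
  let e' : ((X.affineBasicOpen g : X.affineOpens) : X.Opens) ≤ f ⁻¹ᵁ (V x : Y.Opens) :=
    (X.basicOpen_le g).trans (e x)
  obtain ⟨h0, h1⟩ := isLocalizedModule_chartRes' (e x) g e' le_rfl le_rfl
  constructor
  · intro s
    obtain ⟨n, m, hm⟩ := h1 (c.iso (X.affineBasicOpen g) (V x) e' s)
    refine ⟨n, (c.iso (U x) (V x) (e x)).symm m, (c.iso (X.affineBasicOpen g) (V x) e').injective ?_⟩
    refine (c.map_res (e x) e' (X.basicOpen_le g) le_rfl _).trans ?_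
    rw [AddEquiv.apply_symm_apply, hm]
    exact (c.map_smul (X.affineBasicOpen g) (V x) e' _ s).symm
  · intro t ht
    have h2 : NLCx.chartRes (e x) e' (X.basicOpen_le g) le_rfl (c.iso (U x) (V x) (e x) t) = 0 :=
      (c.map_res (e x) e' (X.basicOpen_le g) le_rfl t).symm.trans
        ((congrArg (c.iso (X.affineBasicOpen g) (V x) e') ht).trans (map_zero _))
    obtain ⟨n, hn⟩ := h0 _ h2
    refine ⟨n, (c.iso (U x) (V x) (e x)).injective (Eq.trans ?_ (map_zero (c.iso (U x) (V x) (e x))).symm)⟩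
    refine Eq.trans ?_ hn
    rw [show (X.presheaf.map (homOfLE (le_refl (U x : X.Opens))).op g) = g by
      rw [show (homOfLE (le_refl (U x : X.Opens))).op = 𝟙 _ from rfl, CategoryTheory.Functor.map_id]; rfl]
    exact c.map_smul (U x) (V x) (e x) _ t

end NLSheafLib
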